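import Groth.Agent.H16Derived.AcyclicLES
import Groth.Agent.H15Site.RDSeq
import Mathlib.CategoryTheory.Abelian.RightDerived

/-!
Right derived functors of a composition with an exact functor sending injectives to acyclics.
-/

set_option autoImplicit false
set_option linter.unusedSectionVars false
set_option linter.style.haveILetI false
set_option backward.isDefEq.respectTransparency false

universe v u v₁ u₁ v₂ u₂

open CategoryTheory CategoryTheory.Limits

namespace Groth.Agent.H02CA.RestrScal

variable {C : Type u} [Category.{v} C] [Abelian C]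

section Desc

variable {X Y : C} {K : CochainComplex C ℕ} (ι : (CochainComplex.single₀ C).obj X ⟶ K) [hι : QuasiIso ι]
  (J : InjectiveResolution Y)

theorem exists_hom_to_resolution (hK₀ : Mono (ι.f 0))
    (h₀ : (ShortComplex.mk (ι.f 0) (K.d 0 1) (by simpa using ι.comm 0 1)).Exact)
    (hex : ∀ n, (K.sc' n (n + 1) (n + 2)).Exact) (f : X ⟶ Y) :
    ∃ φ : K ⟶ J.cocomplex, ι.f 0 ≫ φ.f 0 = f ≫ J.ι.f 0 := by
  let φ0 : K.X 0 ⟶ J.cocomplex.X 0 := Injective.factorThru (f ≫ J.ι.f 0) (ι.f 0)
  have hφ0 : ι.f 0 ≫ φ0 = f ≫ J.ι.f 0 := Injective.comp_factorThru _ _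
  have hc : ι.f 0 ≫ φ0 ≫ J.cocomplex.d 0 1 = 0 := by
    rw [reassoc_of% hφ0, J.ι_f_zero_comp_complex_d, comp_zero]
  let φ1 := h₀.descToInjective (φ0 ≫ J.cocomplex.d 0 1) hc
  have hφ1 : K.d 0 1 ≫ φ1 = φ0 ≫ J.cocomplex.d 0 1 := h₀.comp_descToInjective _ _
  refine ⟨CochainComplex.mkHom _ _ φ0 φ1 hφ1.symm fun n ⟨g, g', w⟩ =>
    ⟨(hex n).descToInjective (g' ≫ J.cocomplex.d (n + 1) (n + 2))
      (by change K.d n (n + 1) ≫ g' ≫ _ = 0; rw [← reassoc_of% w]; simp),
      ((hex n).comp_descToInjective _ _).symm⟩, hφ0⟩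

theorem nonempty_homotopy (hK₀ : Mono (ι.f 0))
    (h₀ : (ShortComplex.mk (ι.f 0) (K.d 0 1) (by simpa using ι.comm 0 1)).Exact)
    (hex : ∀ n, (K.sc' n (n + 1) (n + 2)).Exact) (φ φ' : K ⟶ J.cocomplex)
    (h : ι.f 0 ≫ φ.f 0 = ι.f 0 ≫ φ'.f 0) : Nonempty (Homotopy φ φ') := by
  refine ⟨Homotopy.equivSubZero.invFun ?_⟩
  let f := φ - φ'
  have hf : ι.f 0 ≫ f.f 0 = 0 := by simp [f, h]
  let s0 : K.X 1 ⟶ J.cocomplex.X 0 := h₀.descToInjective (f.f 0) hf
  have hs0 : K.d 0 1 ≫ s0 = f.f 0 := h₀.comp_descToInjective _ _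
  let s1 : K.X 2 ⟶ J.cocomplex.X 1 := (hex 0).descToInjective (f.f 1 - s0 ≫ J.cocomplex.d 0 1)
    (by change K.d 0 1 ≫ _ = 0; rw [Preadditive.comp_sub, reassoc_of% hs0, HomologicalComplex.Hom.comm, sub_self])
  have hs1 : K.d 1 2 ≫ s1 = f.f 1 - s0 ≫ J.cocomplex.d 0 1 := (hex 0).comp_descToInjective _ _
  exact Homotopy.mkCoinductive _ s0 hs0.symm s1 (by rw [hs1]; change f.f 1 = _; abel) fun n ⟨g, g', w⟩ =>
    ⟨(hex (n + 1)).descToInjective (f.f (n + 2) - g' ≫ J.cocomplex.d _ _) (by
      change K.d (n + 1) (n + 2) ≫ _ = 0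
      rw [Preadditive.comp_sub, ← HomologicalComplex.Hom.comm, w]
      simp [Preadditive.add_comp]), by
      have := (hex (n + 1)).comp_descToInjective (f.f (n + 2) - g' ≫ J.cocomplex.d (n + 1) (n + 2))
      refine Eq.trans ?_ (congrArg (fun t => g' ≫ J.cocomplex.d _ _ + t) (this _).symm)
      abel⟩

end Desc

section Extend

variable {D : Type u₁} [Category.{v₁} D] [Abelian D] (G : C ⥤ D) [G.Additive]

/-- Applying an additive functor commutes with extension by zero, for any complex. -/
noncomputable def mapExtendIso (K : CochainComplex C ℕ) :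
    (G.mapHomologicalComplex (ComplexShape.up ℤ)).obj (K.extend ComplexShape.embeddingUpNat) ≅
      ((G.mapHomologicalComplex (ComplexShape.up ℕ)).obj K).extend ComplexShape.embeddingUpNat :=
  HomologicalComplex.Hom.isoOfComponents
    (fun
      | Int.ofNat k => G.mapIso (K.extendXIso ComplexShape.embeddingUpNat (i := k) rfl) ≪≫
          (HomologicalComplex.extendXIso ((G.mapHomologicalComplex (ComplexShape.up ℕ)).obj K)
            ComplexShape.embeddingUpNat (i := k) rfl).symm
      | Int.negSucc k => IsZero.iso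
          (G.map_isZero (HomologicalComplex.isZero_extend_X _ _ _ (fun i => by simp)))
          (HomologicalComplex.isZero_extend_X _ _ _ (fun i => by simp)))
    (fun
      | Int.negSucc k, _, _ =>
          (G.map_isZero (HomologicalComplex.isZero_extend_X _ _ _ (fun i => by simp))).eq_of_src _ _
      | Int.ofNat k, Int.negSucc l, h => absurd (h : (k : ℤ) + 1 = Int.negSucc l) (fun h' => by simp [Int.negSucc_eq] at h'; lia)
      | Int.ofNat k, Int.ofNat l, _ => by
        dsimp only
        rw [Iso.trans_hom, Iso.trans_hom, Iso.symm_hom, Iso.symm_hom, Functor.mapIso_hom,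
          Functor.mapIso_hom]
        erw [HomologicalComplex.extend_d_eq _ ComplexShape.embeddingUpNat (i := k) (j := l) rfl rfl]
        simp only [Functor.mapHomologicalComplex_obj_d]
        erw [HomologicalComplex.extend_d_eq K ComplexShape.embeddingUpNat (i := k) (j := l) rfl rfl]
        simp)

theorem mapExtendIso_natural {K L : CochainComplex C ℕ} (φ : K ⟶ L) :
    (G.mapHomologicalComplex (ComplexShape.up ℤ)).map (HomologicalComplex.extendMap φ ComplexShape.embeddingUpNat) ≫
        (mapExtendIso G L).hom =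
      (mapExtendIso G K).hom ≫
        HomologicalComplex.extendMap ((G.mapHomologicalComplex (ComplexShape.up ℕ)).map φ) ComplexShape.embeddingUpNat := by
  ext i
  cases i with
  | negSucc k =>
    exact (G.map_isZero (HomologicalComplex.isZero_extend_X _ _ _ (fun i => by simp))).eq_of_src _ _
  | ofNat k =>
    change G.map ((HomologicalComplex.extendMap φ ComplexShape.embeddingUpNat).f (k : ℤ)) ≫
        (G.map (L.extendXIso ComplexShape.embeddingUpNat (i := k) rfl).hom ≫
          (((G.mapHomologicalComplex (ComplexShape.up ℕ)).obj L).extendXIso ComplexShape.embeddingUpNat (i := k) rfl).inv) =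
      (G.map (K.extendXIso ComplexShape.embeddingUpNat (i := k) rfl).hom ≫
          (((G.mapHomologicalComplex (ComplexShape.up ℕ)).obj K).extendXIso ComplexShape.embeddingUpNat (i := k) rfl).inv) ≫
        (HomologicalComplex.extendMap ((G.mapHomologicalComplex (ComplexShape.up ℕ)).map φ) ComplexShape.embeddingUpNat).f (k : ℤ)
    erw [HomologicalComplex.extendMap_f _ ComplexShape.embeddingUpNat (i := k) rfl,
      HomologicalComplex.extendMap_f _ ComplexShape.embeddingUpNat (i := k) rfl]
    simp

variable [EnoughInjectives C] [PreservesFiniteLimits G]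

open Groth.Agent.H16Derived.AcyclicLES in
/-- An additive left exact functor keeps quasi-isomorphisms between complexes of acyclics. -/
theorem quasiIso_map_of_acyclic {K L : CochainComplex C ℕ} (φ : K ⟶ L) [QuasiIso φ]
    (hK : ∀ i, IsAcyclic G (K.X i)) (hL : ∀ i, IsAcyclic G (L.X i)) :
    QuasiIso ((G.mapHomologicalComplex (ComplexShape.up ℕ)).map φ) := by
  let e := ComplexShape.embeddingUpNat
  have hext : ∀ (M : CochainComplex C ℕ), (∀ i, IsAcyclic G (M.X i)) → ∀ i, IsAcyclic G ((M.extend e).X i) := by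
    intro M hM i
    cases i with
    | ofNat k => exact fun j hj => (hM k j hj).of_iso ((G.rightDerived j).mapIso (M.extendXIso e (i := k) rfl))
    | negSucc k =>
      intro j hj
      have hz : IsZero ((M.extend e).X (Int.negSucc k)) := HomologicalComplex.isZero_extend_X _ _ _ (fun i => by simp [e])
      haveI := hz.injective
      obtain ⟨j, rfl⟩ := Nat.exists_eq_succ_of_ne_zero hj.ne'
      exact G.isZero_rightDerived_obj_injective_succ j _
  haveI : QuasiIso (HomologicalComplex.extendMap φ e) :=
    (HomologicalComplex.quasiIso_extendMap_iff φ e).2 inferInstance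
  haveI := quasiIso_map G (HomologicalComplex.extendMap φ e) 0 (hext K hK) (hext L hL)
  rw [← HomologicalComplex.quasiIso_extendMap_iff _ e]
  exact quasiIso_of_arrow_mk_iso
    ((G.mapHomologicalComplex (ComplexShape.up ℤ)).map (HomologicalComplex.extendMap φ e)) _
    (Arrow.isoMk (mapExtendIso G K) (mapExtendIso G L) (mapExtendIso_natural G φ).symm)

end Extend

section Main

variable {A : Type u₂} [Category.{v₂} A] [Abelian A] [HasInjectiveResolutions A]
  {D : Type u₁} [Category.{v₁} D] [Abelian D] [EnoughInjectives C]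
  (R : A ⥤ C) [R.Additive] [PreservesFiniteLimits R] [PreservesFiniteColimits R]
  (G : C ⥤ D) [G.Additive] [PreservesFiniteLimits G]
  (hR : ∀ (I : A) [Injective I], H16Derived.AcyclicLES.IsAcyclic G (R.obj I))

/-- The augmentation of the image of a resolution. -/
noncomputable def mapι {X : A} (I : InjectiveResolution X) :
    (CochainComplex.single₀ C).obj (R.obj X) ⟶ (R.mapHomologicalComplex _).obj I.cocomplex :=
  (HomologicalComplex.singleMapHomologicalComplex R (ComplexShape.up ℕ) 0).inv.app X ≫
    (R.mapHomologicalComplex _).map I.ι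

theorem mapι_zero {X : A} (I : InjectiveResolution X) : (mapι R I).f 0 = R.map (I.ι.f 0) := by
  simp [mapι]

instance {X : A} (I : InjectiveResolution X) : QuasiIso (mapι R I) := by
  unfold mapι
  infer_instance

theorem mapι_mono {X : A} (I : InjectiveResolution X) : Mono ((mapι R I).f 0) := by
  rw [mapι_zero]
  infer_instance

theorem mapι_exact₀ {X : A} (I : InjectiveResolution X) :
    (ShortComplex.mk ((mapι R I).f 0) (((R.mapHomologicalComplex _).obj I.cocomplex).d 0 1)
      (by simpa using (mapι R I).comm 0 1)).Exact := by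
  refine ShortComplex.exact_of_iso (ShortComplex.isoMk
    (S₁ := (ShortComplex.mk _ _ I.ι_f_zero_comp_complex_d).map R) (Iso.refl _) (Iso.refl _) (Iso.refl _)
    ?_ ?_) (I.exact₀.map R)
  · change 𝟙 _ ≫ (mapι R I).f 0 = R.map (I.ι.f 0) ≫ 𝟙 _
    rw [mapι_zero]
    exact (Category.id_comp _).trans (Category.comp_id _).symm
  · change 𝟙 _ ≫ R.map (I.cocomplex.d 0 1) = R.map (I.cocomplex.d 0 1) ≫ 𝟙 _
    exact (Category.id_comp _).trans (Category.comp_id _).symm

theorem mapι_exact {X : A} (I : InjectiveResolution X) (n : ℕ) :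
    (((R.mapHomologicalComplex _).obj I.cocomplex).sc' n (n + 1) (n + 2)).Exact :=
  (I.exact_succ n).map R

theorem exists_cmp (X : A) :
    ∃ φ : (R.mapHomologicalComplex _).obj (injectiveResolution X).cocomplex ⟶
        (injectiveResolution (R.obj X)).cocomplex,
      (mapι R (injectiveResolution X)).f 0 ≫ φ.f 0 = (injectiveResolution (R.obj X)).ι.f 0 := by
  obtain ⟨φ, hφ⟩ := exists_hom_to_resolution (mapι R (injectiveResolution X)) (injectiveResolution (R.obj X))
    (mapι_mono R _) (mapι_exact₀ R _) (mapι_exact R _) (𝟙 _)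
  exact ⟨φ, hφ.trans (Category.id_comp _)⟩

include hR in
theorem quasiIso_cmp (X : A) (φ : (R.mapHomologicalComplex _).obj (injectiveResolution X).cocomplex ⟶
      (injectiveResolution (R.obj X)).cocomplex)
    (hφ : (mapι R (injectiveResolution X)).f 0 ≫ φ.f 0 = (injectiveResolution (R.obj X)).ι.f 0) :
    QuasiIso ((G.mapHomologicalComplex (ComplexShape.up ℕ)).map φ) := by
  have e : mapι R (injectiveResolution X) ≫ φ = (injectiveResolution (R.obj X)).ι :=
    HomologicalComplex.from_single_hom_ext (by rw [HomologicalComplex.comp_f]; exact hφ)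
  haveI : QuasiIso (mapι R (injectiveResolution X) ≫ φ) := by rw [e]; infer_instance
  haveI : QuasiIso φ := quasiIso_of_comp_left (mapι R (injectiveResolution X)) φ
  exact quasiIso_map_of_acyclic G φ (fun i => hR _)
    (fun i => H16Derived.AcyclicLES.isAcyclic_of_injective G _)

include hR in
theorem nonempty_precompIso (n : ℕ) : Nonempty ((R ⋙ G).rightDerived n ≅ R ⋙ G.rightDerived n) := by
  choose φ hφ using fun X => exists_cmp R X
  let H := HomologicalComplex.homologyFunctor D (ComplexShape.up ℕ) n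
  have hiso : ∀ X, IsIso (H.map ((G.mapHomologicalComplex (ComplexShape.up ℕ)).map (φ X))) := fun X => by
    have := quasiIso_cmp R G hR X (φ X) (hφ X)
    exact (quasiIsoAt_iff_isIso_homologyMap _ n).1 inferInstance
  refine ⟨NatIso.ofComponents (fun X => (injectiveResolution X).isoRightDerivedObj (R ⋙ G) n ≪≫
      @asIso _ _ _ _ _ (hiso X) ≪≫ ((injectiveResolution (R.obj X)).isoRightDerivedObj G n).symm)
    fun {X Y} f => ?_⟩
  let ψ := InjectiveResolution.desc f (injectiveResolution Y) (injectiveResolution X)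
  let ψ' := InjectiveResolution.desc (R.map f) (injectiveResolution (R.obj Y)) (injectiveResolution (R.obj X))
  have hψ : (injectiveResolution X).ι.f 0 ≫ ψ.f 0 = f ≫ (injectiveResolution Y).ι.f 0 :=
    InjectiveResolution.desc_commutes_zero _ _ _
  have hψ' : (injectiveResolution (R.obj X)).ι.f 0 ≫ ψ'.f 0 = R.map f ≫ (injectiveResolution (R.obj Y)).ι.f 0 :=
    InjectiveResolution.desc_commutes_zero _ _ _
  have hz : (mapι R (injectiveResolution X)).f 0 ≫ ((R.mapHomologicalComplex _).map ψ ≫ φ Y).f 0 =
      (mapι R (injectiveResolution X)).f 0 ≫ (φ X ≫ ψ').f 0 := by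
    rw [HomologicalComplex.comp_f, HomologicalComplex.comp_f, reassoc_of% hφ X, hψ', mapι_zero,
      Functor.mapHomologicalComplex_map_f, ← R.map_comp_assoc, hψ, R.map_comp, Category.assoc,
      ← mapι_zero, hφ Y]
  obtain ⟨hom⟩ := nonempty_homotopy (mapι R (injectiveResolution X)) (injectiveResolution (R.obj Y))
    (mapι_mono R _) (mapι_exact₀ R _) (mapι_exact R _) _ _ hz
  have key : H.map ((G.mapHomologicalComplex (ComplexShape.up ℕ)).map ((R.mapHomologicalComplex _).map ψ)) ≫
        H.map ((G.mapHomologicalComplex (ComplexShape.up ℕ)).map (φ Y)) =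
      H.map ((G.mapHomologicalComplex (ComplexShape.up ℕ)).map (φ X)) ≫
        H.map ((G.mapHomologicalComplex (ComplexShape.up ℕ)).map ψ') := by
    rw [← H.map_comp, ← H.map_comp, ← Functor.map_comp, ← Functor.map_comp]
    exact (G.mapHomotopy hom).homologyMap_eq n
  simp only [Iso.trans_hom, Iso.symm_hom, Category.assoc]
  rw [InjectiveResolution.isoRightDerivedObj_hom_naturality_assoc f _ _ ψ hψ (R ⋙ G) n]
  congr 1
  refine Eq.trans (b := (H.map ((G.mapHomologicalComplex (ComplexShape.up ℕ)).map (φ X)) ≫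
      H.map ((G.mapHomologicalComplex (ComplexShape.up ℕ)).map ψ')) ≫
        ((injectiveResolution (R.obj Y)).isoRightDerivedObj G n).inv) ?_ ?_
  · exact (Category.assoc _ _ _).symm.trans (congrArg (· ≫ _) key)
  · exact (Category.assoc _ _ _).trans (congrArg (_ ≫ ·)
      (InjectiveResolution.isoRightDerivedObj_inv_naturality (R.map f) _ _ ψ' hψ' G n).symm)

end Main

end Groth.Agent.H02CA.RestrScal
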