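import Groth.Agent.H02CA.RestrScal.Precomp
import Groth.Agent.H02CA.HZShVanish
import Groth.Agent.H02CA.RDPostcomp
import Groth.Agent.H02CA.ModLocalise
import Groth.Agent.H10Coh.ModGroth
import Groth.Agent.H15Site.ModExtH
import Groth.Agent.H17.BMod.Colim

/-!
Sections with supports and restriction of scalars.
-/

set_option autoImplicit false
set_option linter.style.haveILetI false
set_option linter.unusedSectionVars false
set_option backward.isDefEq.respectTransparency false

universe u

open CategoryTheory CategoryTheory.Limits Opposite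

namespace Groth.Agent.H02CA.RestrScal

open Groth.Agent.H15Site Groth.Agent.H15Site.SiteGenInst

attribute [local instance 10000] SiteInst.hasSheafifySite SiteInst.hasWeakSheafifySite
  SiteInst.hasExtSite SiteInst.enoughInjSite

variable {C : Type u} [SmallCategory C] {J : GrothendieckTopology C} {O O' : Sheaf J CommRingCat.{u}}

/-- A map restricts to zero on `U` iff it vanishes on all sections over objects over `U`. -/
theorem restr_map_eq_zero_iff (U : C) {X G : ModSite.Mod O} (g : X ⟶ G) :
    (ModSite.restr O U).map g = 0 ↔ ∀ (W : C) (_ : W ⟶ U) (x : (ModSite.toAb X).obj.obj (op W)),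
      (((SheafOfModules.toSheaf (ModSite.ringSh O)).map g).hom.app (op W)).hom x = 0 := by
  constructor
  · intro h W a x
    exact congrArg (fun ψ : (ModSite.restr O U).obj X ⟶ (ModSite.restr O U).obj G =>
      (ψ.val.app (op (Over.mk a))).hom x) h
  · intro h
    apply (SheafOfModules.toSheaf _).map_injective
    ext Y m
    exact h (unop Y).left (unop Y).hom m

variable (φ : O ⟶ O') (U : C)

/-- Restriction of scalars. -/
noncomputable abbrev R : ModSite.Mod O' ⥤ ModSite.Mod O :=
  SheafOfModules.restrictScalars.{u} ((sheafCompose J (forget₂ CommRingCat.{u} RingCat.{u})).map φ)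

theorem preservesFiniteLimits_R : PreservesFiniteLimits (R φ) :=
  H17.BMod.preservesFiniteLimits_restrictScalars _

theorem preservesFiniteColimits_R : PreservesFiniteColimits (R φ) := by
  have := H17.BMod.preservesColimitsOfSize_restrictScalars.{u}
    ((sheafCompose J (forget₂ CommRingCat.{u} RingCat.{u})).map φ)
  infer_instance

theorem R_map_eq_zero_iff {X G : ModSite.Mod O'} (g : X ⟶ G) :
    (ModSite.restr O U).map ((R φ).map g) = 0 ↔ (ModSite.restr O' U).map g = 0 := by
  rw [restr_map_eq_zero_iff, restr_map_eq_zero_iff]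
  exact Iff.rfl

variable [ModSite.HasPushOver O U] [ModSite.HasPushOver O' U]

theorem R_ι_comp_unit (F : ModSite.Mod O') :
    (R φ).map ((ModSite.sectOnι O' U).app F) ≫ (ModSite.restrPushOverAdj O U).unit.app ((R φ).obj F) = 0 :=
  (ModNull.comp_unit_eq_zero_iff _).2 ((R_map_eq_zero_iff φ U _).2
    ((ModNull.comp_unit_eq_zero_iff _).1 (ModNull.sectOnι_comp_unit F)))

theorem ι_comp_R_unit (F : ModSite.Mod O') :
    (ModSite.sectOnι O U).app ((R φ).obj F) ≫ (R φ).map ((ModSite.restrPushOverAdj O' U).unit.app F) = 0 := by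
  apply (SheafOfModules.toSheaf _).map_injective
  ext ⟨V⟩ s
  let ι := (SheafOfModules.toSheaf (ModSite.ringSh O)).map ((ModSite.sectOnι O U).app ((R φ).obj F))
  let t : (ModSite.toAb F).obj.obj (op V) := (ι.hom.app (op V)).hom s
  let ψ := (eMod O' V F).symm t
  have hz := (restr_map_eq_zero_iff U _).1
    ((ModNull.comp_unit_eq_zero_iff _).1 (ModNull.sectOnι_comp_unit (U := U) ((R φ).obj F)))
  have hψ : (ModSite.restr O' U).map ψ = 0 := by
    rw [HZExt.restr_map_eq_zero_iff_sect U V ψ, Equiv.apply_symm_apply]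
    intro W a k
    exact (ConcreteCategory.congr_hom (ι.hom.naturality k.op) s).symm.trans (hz W a _)
  have hψ' : ψ ≫ (ModSite.restrPushOverAdj O' U).unit.app F = 0 :=
    (ModNull.comp_unit_eq_zero_iff _).2 hψ
  have e := eMod_naturality_right O' ψ ((ModSite.restrPushOverAdj O' U).unit.app F)
  rw [hψ', Equiv.apply_symm_apply] at e
  have h0 := eMod_naturality_right O' (0 : (freeModFunctor O').obj V ⟶ F)
    (0 : F ⟶ (ModSite.pushOver O' U).obj ((ModSite.restr O' U).obj F))
  rw [zero_comp, Functor.map_zero] at h0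
  exact e.symm.trans h0

section Mutual

variable {D : Type*} [Category D] [HasZeroMorphisms D] {A X Y Z : D} {g : X ⟶ Y} {h : X ⟶ Z}
  [HasKernel h] {m : A ⟶ X} {w : m ≫ g = 0} (hm : IsLimit (KernelFork.ofι m w))
  (w₁ : m ≫ h = 0) (w₂ : kernel.ι h ≫ g = 0)

/-- Two kernels in the same subobject class. -/
noncomputable def kernelIsoOfMutual : A ≅ kernel h where
  hom := kernel.lift h m w₁
  inv := hm.lift (KernelFork.ofι (kernel.ι h) w₂)
  hom_inv_id := by
    apply Fork.IsLimit.hom_ext hm
    rw [Category.assoc, Fork.IsLimit.lift_ι, Category.id_comp]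
    exact kernel.lift_ι _ _ _
  inv_hom_id := by
    apply equalizer.hom_ext
    rw [Category.assoc, Category.id_comp]
    exact (congrArg (_ ≫ ·) (kernel.lift_ι h m w₁)).trans (hm.fac (KernelFork.ofι (kernel.ι h) w₂) .zero)

end Mutual

/-- Sections with supports commute with restriction of scalars. -/
noncomputable def sectIsoApp (F : ModSite.Mod O') :
    (R φ).obj ((ModSite.sectOn O' U).obj F) ≅ (ModSite.sectOn O U).obj ((R φ).obj F) :=
  haveI := preservesFiniteLimits_R φ
  kernelIsoOfMutual (w := by rw [← Functor.map_comp, kernel.condition, Functor.map_zero])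
    (isLimitOfHasKernelOfPreservesLimit (R φ) ((ModSite.restrPushOverAdj O' U).unit.app F))
    (R_ι_comp_unit φ U F) (ι_comp_R_unit φ U F)

theorem sectIsoApp_hom_ι (F : ModSite.Mod O') :
    (sectIsoApp φ U F).hom ≫ (ModSite.sectOnι O U).app ((R φ).obj F) =
      (R φ).map ((ModSite.sectOnι O' U).app F) :=
  kernel.lift_ι _ _ _

/-- Isomorphisms compatible with natural monomorphisms are natural. -/
noncomputable def natIsoOfMono {A D : Type*} [Category A] [Category D] {F G H : A ⥤ D} (a : F ⟶ H) (b : G ⟶ H)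
    [∀ X, Mono (b.app X)] (e : ∀ X, F.obj X ≅ G.obj X) (he : ∀ X, (e X).hom ≫ b.app X = a.app X) : F ≅ G :=
  NatIso.ofComponents e fun {X Y} f => by
    rw [← cancel_mono (b.app Y), Category.assoc, he, a.naturality, Category.assoc, b.naturality,
      ← Category.assoc, he]

/-- Sections with supports commute with restriction of scalars, naturally. -/
noncomputable def sectIso : ModSite.sectOn O' U ⋙ R φ ≅ R φ ⋙ ModSite.sectOn O U :=
  haveI : ∀ F, Mono ((Functor.whiskerLeft (R φ) (ModSite.sectOnι O U)).app F) :=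
    fun F => ModNull.mono_sectOnι (U := U) ((R φ).obj F)
  natIsoOfMono (H := R φ) (Functor.whiskerRight (ModSite.sectOnι O' U) (R φ))
    (Functor.whiskerLeft (R φ) (ModSite.sectOnι O U)) (sectIsoApp φ U)
    (fun F => sectIsoApp_hom_ι φ U F)

theorem preservesFiniteLimits_sectOn : PreservesFiniteLimits (ModSite.sectOn O U) := by
  haveI : (ModSite.sectOn O U).IsRightAdjoint := ⟨_, ⟨ModNull.adjZ O U⟩⟩
  infer_instance

theorem isAcyclic_R [HasInjectiveResolutions (ModSite.Mod O)] [EnoughInjectives (ModSite.Mod O)]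
    (I : ModSite.Mod O') [Injective I] :
    H16Derived.AcyclicLES.IsAcyclic (ModSite.sectOn O U) ((R φ).obj I) := by
  intro j hj
  obtain ⟨j, rfl⟩ := Nat.exists_eq_succ_of_ne_zero hj.ne'
  haveI : HasExt.{u} (ModSite.Mod O) := hasExt_of_enoughInjectives _
  exact HZExt.isZero_HZsh U (M := (R φ).obj I)
    (ModExtH.isTotallyAcyclic_toSheaf (ModSite.ringSh O') I) j

theorem nonempty_HZsh_iso [HasInjectiveResolutions (ModSite.Mod O)]
    [HasInjectiveResolutions (ModSite.Mod O')] (q : ℕ) :
    Nonempty (ModSite.HZsh O' U q ⋙ R φ ≅ R φ ⋙ ModSite.HZsh O U q) := by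
  haveI := ModNull.enoughInjectives_mod O
  haveI := preservesFiniteLimits_R φ
  haveI := preservesFiniteColimits_R φ
  haveI := preservesFiniteLimits_sectOn (O := O) U
  obtain ⟨e⟩ := nonempty_precompIso (R φ) (ModSite.sectOn O U) (fun I _ => isAcyclic_R φ U I) q
  exact ⟨(RDPostcomp.postcompIso (ModSite.sectOn O' U) (R φ) q).symm ≪≫
    ModLocalise.rdMapIso (sectIso φ U) q ≪≫ e⟩

end Groth.Agent.H02CA.RestrScal
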